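import Mathlib
import Cfsg.Agent.H20.FrobTits_m3
import Cfsg.Agent.H87.TitsData
import Cfsg.Agent.H403.TitsSixteen
import Cfsg.Agent.S1074
import Cfsg.Agent.Prune
set_option linter.all false
prune_inst 0x7f00000000000000000000000000000000000000000000000000000000000000000000000000000000000000000000000000000000000000000000000000000000000000000000000000000000000000003fffffffffffffffffffffffffffbeffbdffffffff
open scoped Cfsg.Agent.FastGrp

/-!
# The Tits group has only the trivial solutions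
-/

set_option autoImplicit false

universe u

namespace Cfsg.Agent.H20.FrobTitsInst

open Subgroup Cfsg Cfsg.Agent.H20.FrobReduce Cfsg.Agent.H20.FrobTools Cfsg.Agent.H20.FrobTits

section

open Cfsg.Agent.Omega.TwoF.Tits Cfsg.Agent.Omega.TwoF.Scalar Cfsg.Agent.Omega.TwoF.Orb
  Cfsg.Agent.ChevalleyStructure.Tits.Main

theorem exists_P_aux (K : Subgroup (Matrix.GeneralLinearGroup Cfsg.Agent.ChevalleyStructure.Tits.Mat.I52 (ZMod 2)))
    (hK : K = Cfsg.Agent.ChevalleyStructure.Tits.Order.H0) :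
    ∃ P : Subgroup (_root_.commutator K), Nat.card P = 25 ∧ ∀ a ∈ P, a ^ 5 = 1 := by
  subst hK
  exact ⟨_, CpAutTits.Fus.card_P, (elem_grp two).pow⟩

end

theorem exists_P : ∃ P : Subgroup Cfsg.Lie.TitsGroup, Nat.card P = 25 ∧ ∀ a ∈ P, a ^ 5 = 1 :=
  exists_P_aux (Cfsg.Lie.twistedF4 (ZMod 2) 1) Cfsg.Agent.ChevalleyStructure.Tits.Main.T0_eq_H0

theorem tr_gen {X : Type} [Group X] (hs : IsSimpleGroup X) (D : H87.TitsAbs.Dat X) (O : CpAutTits.Row.Out X)
    (hP : ∃ P : Subgroup X, Nat.card P = 25 ∧ ∀ a ∈ P, a ^ 5 = 1) {S : Type u} [Group S] (e : S ≃* X)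
    (hV : ∃ V : Subgroup S, Nat.card V = 32 ∧ ∀ u ∈ V, u * u = 1) : Tr S := by
  obtain ⟨V, hV1, hV2⟩ := hV
  obtain ⟨P, hP1, hP2⟩ := hP
  have hfin : Finite X := by
    apply Nat.finite_of_card_ne_zero
    rw [O.card]
    norm_num
  have : Fact (Nat.Prime 13) := ⟨by norm_num⟩
  have : Fact (Nat.Prime 3) := ⟨by norm_num⟩
  have hD : TData X :=
    { card := O.card
      x := D.x
      t := D.t
      x13 := orderOf_eq_prime D.x13 D.x1
      t3 := orderOf_eq_prime D.t3 D.t1
      txt := D.txt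
      R := D.R
      cardR := D.card_R
      conjR := fun r hr h1 => D.R_isConj hr h1
      cent5 := O.cent
      ncomm := O.ncomm
      P := P
      cardP := hP1
      expP := hP2
      V := V.map e.toMonoidHom
      cardV := by
        rw [← hV1]
        exact Nat.card_congr (V.equivMapOfInjective _ e.injective).symm.toEquiv
      expV := by
        rintro _ ⟨v, hv, rfl⟩
        rw [← map_mul, hV2 v hv, map_one] }
  exact Tr.congr e hD.tr

/-- **The Tits group.** -/
theorem tr {S : Type u} [Group S] (h : Cfsg.Lie.IsoTits S)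
    (hV : ∃ V : Subgroup S, Nat.card V = 32 ∧ ∀ u ∈ V, u * u = 1) : Tr S := by
  obtain ⟨e⟩ := h
  obtain ⟨D⟩ := H87.TitsData.dat_tits
  exact tr_gen Cfsg.Agent.S1074.result.2.1 D (CpAutTits.Row.out ⟨MulEquiv.refl _⟩) exists_P e hV

end Cfsg.Agent.H20.FrobTitsInst
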